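import Groth.Agent.GrpdLib.QSec6046.Sat
import Groth.Agent.GrpdLib.QuotAffine
import Groth.Agent.S9691
import Groth.Agent.Props.AmpleRel
import Groth.Prelude.Def_Mor2
import Groth.Prelude.Def_RelProj

/-!
# Existence of quasi-sections near a point closed in its fibre
-/

set_option autoImplicit false
set_option backward.isDefEq.respectTransparency false
set_option backward.isDefEq.respectTransparency.types false

universe u

open CategoryTheory Limits AlgebraicGeometry TopologicalSpace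

noncomputable section

namespace Groth.Agent.GrpdLib.QSec6046

open Cut5230 Slice16047

variable {S : Scheme.{u}} (G : Grpd.GroupoidScheme S)

/-- The arrows into a saturated open with target in a subscheme. -/
theorem isPullback_restrict_section {F : Scheme.{u}} (ι : F ⟶ G.U) (W : G.U.Opens)
    (hW : G.t ⁻¹ᵁ W = G.s ⁻¹ᵁ W) :
    ∃ μ, IsPullback μ (pullback.fst (G.t.resLE W (G.s ⁻¹ᵁ W) hW.ge) (ι ∣_ W) ≫ (G.s ∣_ W))
      (hOf G ι) W.ι := by
  let t' := G.t.resLE W (G.s ⁻¹ᵁ W) hW.ge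
  let P := pullback t' (ι ∣_ W)
  have ht' : t' ≫ W.ι = (G.s ⁻¹ᵁ W).ι ≫ G.t := Scheme.Hom.resLE_comp_ι _ _
  let μ : P ⟶ pullback ι G.t :=
    pullback.lift (pullback.snd t' (ι ∣_ W) ≫ (ι ⁻¹ᵁ W).ι) (pullback.fst t' (ι ∣_ W) ≫ (G.s ⁻¹ᵁ W).ι)
      (by rw [Category.assoc, Category.assoc, ← morphismRestrict_ι, ← ht', pullback.condition_assoc])
  have hμ : μ ≫ hOf G ι = (pullback.fst t' (ι ∣_ W) ≫ (G.s ∣_ W)) ≫ W.ι := by
    rw [hOf, ← Category.assoc μ, pullback.lift_snd, Category.assoc, Category.assoc, morphismRestrict_ι]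
  refine ⟨μ, ⟨hμ⟩, ⟨PullbackCone.isLimitAux' _ fun c => ?_⟩⟩
  have hs : ∀ a, G.s ((c.fst ≫ pullback.snd ι G.t) a) ∈ W := fun a => by
    have h := congrArg (fun k : c.pt ⟶ G.U => k a) c.condition
    simp only [hOf, Scheme.Hom.comp_apply] at h ⊢
    rw [h]; exact (c.snd a).2
  have hι : ∀ a, ι ((c.fst ≫ pullback.fst ι G.t) a) ∈ W := fun a => by
    have h : (c.fst ≫ pullback.snd ι G.t) a ∈ G.t ⁻¹ᵁ W := by rw [hW]; exact hs a
    rw [← Scheme.Hom.comp_apply, Category.assoc, pullback.condition, ← Category.assoc,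
      Scheme.Hom.comp_apply]
    exact h
  let a1 : c.pt ⟶ (G.s ⁻¹ᵁ W).toScheme :=
    IsOpenImmersion.lift (G.s ⁻¹ᵁ W).ι (c.fst ≫ pullback.snd ι G.t)
      (by rw [Scheme.Opens.range_ι]; rintro _ ⟨a, rfl⟩; exact hs a)
  let a2 : c.pt ⟶ (ι ⁻¹ᵁ W).toScheme :=
    IsOpenImmersion.lift (ι ⁻¹ᵁ W).ι (c.fst ≫ pullback.fst ι G.t)
      (by rw [Scheme.Opens.range_ι]; rintro _ ⟨a, rfl⟩; exact hι a)
  have ha1 : a1 ≫ (G.s ⁻¹ᵁ W).ι = c.fst ≫ pullback.snd ι G.t := IsOpenImmersion.lift_fac _ _ _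
  have ha2 : a2 ≫ (ι ⁻¹ᵁ W).ι = c.fst ≫ pullback.fst ι G.t := IsOpenImmersion.lift_fac _ _ _
  have hw : a1 ≫ t' = a2 ≫ (ι ∣_ W) := by
    rw [← cancel_mono W.ι, Category.assoc, Category.assoc, ht', morphismRestrict_ι,
      reassoc_of% ha1, reassoc_of% ha2, pullback.condition]
  refine ⟨pullback.lift a1 a2 hw, ?_, ?_, fun {m} hm1 hm2 => ?_⟩
  · apply pullback.hom_ext
    · rw [PullbackCone.mk_fst, Category.assoc, pullback.lift_fst, pullback.lift_snd_assoc, ha2]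
    · rw [PullbackCone.mk_fst, Category.assoc, pullback.lift_snd, pullback.lift_fst_assoc, ha1]
  · rw [PullbackCone.mk_snd, ← cancel_mono W.ι, Category.assoc, Category.assoc, morphismRestrict_ι,
      pullback.lift_fst_assoc, reassoc_of% ha1]
    exact c.condition
  · change c.pt ⟶ P at m
    rw [PullbackCone.mk_fst] at hm1
    apply pullback.hom_ext
    · rw [pullback.lift_fst, ← cancel_mono (G.s ⁻¹ᵁ W).ι, ha1, ← hm1, Category.assoc, Category.assoc,
        pullback.lift_snd]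
    · rw [pullback.lift_snd, ← cancel_mono (ι ⁻¹ᵁ W).ι, ha2, ← hm1, Category.assoc, Category.assoc,
        pullback.lift_fst]

theorem isIso_ι_of_eq_top {X : Scheme.{u}} (V : X.Opens) (h : V = ⊤) : IsIso V.ι := by
  subst h; exact inferInstanceAs (IsIso X.topIso.hom)

/-- Quasi-sections exist near every point closed in its fibre. -/
theorem exists_quasiSection [IsLocallyNoetherian S] [IsProper G.s] [Flat G.s]
    (hU : RelProj.IsQuasiProjective G.pU) [LocallyQuasiFinite G.j] (z : G.U)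
    (hz : IsClosedInFibre G.pU z) :
    ∃ (W : G.U.Opens) (hW : G.t ⁻¹ᵁ W = G.s ⁻¹ᵁ W), z ∈ W ∧
      ∃ (U' : Scheme.{u}) (u : U' ⟶ (W : Scheme.{u})), IsImmersion u ∧
        Mor2.IsFinLocFree (pullback.fst (G.t.resLE W (G.s ⁻¹ᵁ W) hW.ge) u ≫ (G.s ∣_ W)) ∧
        Surjective (pullback.fst (G.t.resLE W (G.s ⁻¹ᵁ W) hW.ge) u ≫ (G.s ∣_ W)) ∧
        ∀ E : Set U', (∀ x ∈ E, ∀ y ∈ E, ∃ r : G.R,
            G.t.base r = (u ≫ W.ι).base x ∧ G.s.base r = (u ≫ W.ι).base y) →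
          ∃ V : U'.Opens, IsAffineOpen V ∧ E ⊆ (V : Set U') := by
  obtain ⟨hlft, hqc, L, hL⟩ := hU
  have := hlft
  have := hqc
  have : IsSeparated G.pU := S9691.result G.pU L hL
  have : IsLocallyNoetherian G.U := LocallyOfFiniteType.isLocallyNoetherian G.pU
  have : LocallyOfFinitePresentation G.s := inferInstance
  have hti : IsIso G.i := isIso_i G
  have : Flat G.t := by rw [← G.i_s]; infer_instance
  have : QuasiCompact (G.j ≫ pullback.snd G.pU G.pU) := by rw [j_snd]; infer_instance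
  have : QuasiCompact G.j := QuasiCompact.of_comp G.j (pullback.snd G.pU G.pU)
  obtain ⟨S0, hS0, hzS0, -⟩ := exists_isAffineOpen_mem_and_subset (x := G.pU z) (U := ⊤) trivial
  let U0 := G.pU ⁻¹ᵁ S0
  have he : G.s ⁻¹ᵁ U0 = G.t ⁻¹ᵁ U0 := by
    simp only [U0, ← Scheme.Hom.comp_preimage, G.s_over, G.t_over]
  let pX : U0.toScheme ⟶ S0.toScheme := G.pU ∣_ S0
  let v0 : (G.s ⁻¹ᵁ U0).toScheme ⟶ U0.toScheme := G.s ∣_ U0
  let u0 : (G.s ⁻¹ᵁ U0).toScheme ⟶ U0.toScheme := (G.R.isoOfEq he).hom ≫ (G.t ∣_ U0)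
  have hu0 : u0 ≫ U0.ι = (G.s ⁻¹ᵁ U0).ι ≫ G.t := by simp [u0]
  have hv0 : v0 ≫ U0.ι = (G.s ⁻¹ᵁ U0).ι ≫ G.s := morphismRestrict_ι _ _
  have hpXι : pX ≫ S0.ι = U0.ι ≫ G.pU := morphismRestrict_ι _ _
  have huv : u0 ≫ pX = v0 ≫ pX := by
    rw [← cancel_mono S0.ι, Category.assoc u0, Category.assoc v0, hpXι, ← Category.assoc u0,
      ← Category.assoc v0, hu0, hv0, Category.assoc, Category.assoc, G.t_over, G.s_over]
  have : IsAffine S0.toScheme := hS0
  have : LocallyOfFiniteType pX := IsZariskiLocalAtTarget.restrict ‹LocallyOfFiniteType G.pU› S0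
  have : QuasiCompact pX := IsZariskiLocalAtTarget.restrict ‹QuasiCompact G.pU› S0
  have : IsProper v0 := IsZariskiLocalAtTarget.restrict ‹IsProper G.s› U0
  have : CompactSpace U0.toScheme := QuasiCompact.compactSpace_of_compactSpace pX
  have : IsLocallyNoetherian U0.toScheme := LocallyOfFiniteType.isLocallyNoetherian pX
  have : IsNoetherian U0.toScheme := {}
  have : CompactSpace (G.s ⁻¹ᵁ U0).toScheme := QuasiCompact.compactSpace_of_compactSpace v0
  have : IsLocallyNoetherian (G.s ⁻¹ᵁ U0).toScheme := LocallyOfFiniteType.isLocallyNoetherian v0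
  have : IsNoetherian (G.s ⁻¹ᵁ U0).toScheme := {}
  have hL0 : CohB1.IsAmple ((Scheme.Modules.pullback U0.ι).obj L) :=
    Props.AmpleRel.isAmple_pullback_preimage hL ⟨S0, hS0⟩
  let z0 : U0.toScheme := ⟨z, hzS0⟩
  have hzc0 : IsClosedInFibre pX z0 := by
    intro z' hz' hp
    refine U0.ι.isOpenEmbedding.injective (hz _ ?_ ?_)
    · have := map_mem_closure U0.ι.continuous hz' (Set.mapsTo_image U0.ι {z0})
      rwa [Set.image_singleton] at this
    · rw [← Scheme.Hom.comp_apply, ← hpXι, Scheme.Hom.comp_apply, hp, ← Scheme.Hom.comp_apply, hpXι]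
      rfl
  have hflat : ∀ y, v0 y = z0 → (v0.stalkMap y).hom.Flat := fun y _ =>
    have : Flat v0 := IsZariskiLocalAtTarget.restrict ‹Flat G.s› U0
    Flat.stalkMap v0 y
  have hzr : z0 ∈ Set.range v0 := by
    refine ⟨⟨G.e z, ?_⟩, U0.ι.isOpenEmbedding.injective ?_⟩
    · show G.s (G.e z) ∈ U0
      rw [s_e_apply]; exact hzS0
    · rw [← Scheme.Hom.comp_apply, hv0, Scheme.Hom.comp_apply]
      exact s_e_apply G z
  obtain ⟨F, j, hj, hfin, hne, hfl⟩ :=
    exists_cutting pX (v0 ≫ pX) pX u0 v0 huv rfl hL0 z0 hzr hzc0 hflat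
  let ι := j ≫ U0.ι
  -- the arrows from `F` stay over `U0`
  let sn : pullback ι G.t ⟶ (G.s ⁻¹ᵁ U0).toScheme :=
    IsOpenImmersion.lift (G.s ⁻¹ᵁ U0).ι (pullback.snd ι G.t) (by
      rw [Scheme.Opens.range_ι]
      rintro _ ⟨p, rfl⟩
      rw [SetLike.mem_coe, he]
      show G.t (pullback.snd ι G.t p) ∈ U0
      rw [← Scheme.Hom.comp_apply, ← pullback.condition, Scheme.Hom.comp_apply, Scheme.Hom.comp_apply]
      exact (j (pullback.fst ι G.t p)).2)
  have hsn : sn ≫ (G.s ⁻¹ᵁ U0).ι = pullback.snd ι G.t := IsOpenImmersion.lift_fac _ _ _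
  have sq : IsPullback (pullback.fst ι G.t) sn j u0 := by
    refine isPullback_of_comp_mono U0.ι ?_
    rw [hu0]
    refine isPullback_cancel_leg (G.s ⁻¹ᵁ U0).ι ?_
    rw [hsn]
    exact IsPullback.of_hasPullback ι G.t
  have hh : (sn ≫ v0) ≫ U0.ι = hOf G ι := by rw [Category.assoc, hv0, reassoc_of% hsn]
  have hsncl : IsClosedImmersion sn :=
    MorphismProperty.of_isPullback (P := @IsClosedImmersion) sq hj
  have htop : hOf G ι ⁻¹ᵁ U0 = ⊤ := by
    rw [← hh, Scheme.Hom.comp_preimage, Scheme.Opens.ι_preimage_self, Scheme.Hom.preimage_top]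
  have : IsProper (hOf G ι ∣_ U0) := by
    have e : hOf G ι ∣_ U0 = (hOf G ι ⁻¹ᵁ U0).ι ≫ sn ≫ v0 := by
      rw [← cancel_mono U0.ι, morphismRestrict_ι, Category.assoc, hh]
    have := isIso_ι_of_eq_top _ htop
    rw [e]; infer_instance
  have hmem : ∀ p, hOf G ι p = z → G.s (pullback.snd ι G.t p) = z ∧
      G.t (pullback.snd ι G.t p) = ι (pullback.fst ι G.t p) ∧
      u0 (sn p) ∈ u0 '' cutFibre j u0 v0 z0 := by
    intro p hp
    refine ⟨(Scheme.Hom.comp_apply _ _ p).symm.trans hp, ?_, sn p, ⟨⟨pullback.fst ι G.t p, ?_⟩, ?_⟩, rfl⟩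
    · rw [← Scheme.Hom.comp_apply, ← pullback.condition, Scheme.Hom.comp_apply]
    · rw [← Scheme.Hom.comp_apply, sq.w, Scheme.Hom.comp_apply]
    · refine U0.ι.isOpenEmbedding.injective ?_
      rw [← Scheme.Hom.comp_apply, ← Scheme.Hom.comp_apply, ← Category.assoc, hh, hp]
      rfl
  have hfinz : (hOf G ι ⁻¹' {z}).Finite := by
    have : Function.Injective (pullback.snd ι G.t) := (pullback.snd ι G.t).isEmbedding.injective
    refine (Set.Finite.preimage this.injOn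
      ((hfin.biUnion (t := fun a => G.i '' {r | G.t r = z ∧ G.s r = U0.ι a})
        (fun a _ => (finite_arrows G z (U0.ι a) hz).image G.i)))).subset ?_
    intro p hp
    obtain ⟨h1, h2, h3⟩ := hmem p hp
    refine Set.mem_biUnion h3 ⟨G.i (pullback.snd ι G.t p), ⟨(t_i_apply G _).trans h1, ?_⟩, ?_⟩
    · rw [s_i_apply, ← Scheme.Hom.comp_apply u0, hu0, Scheme.Hom.comp_apply,
        ← Scheme.Hom.comp_apply sn, hsn]
    · rw [← Scheme.Hom.comp_apply, i_i]; rfl
  have hnez : (hOf G ι ⁻¹' {z}).Nonempty := by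
    obtain ⟨y, ⟨f, hf⟩, hy⟩ := hne
    obtain ⟨w, hw1, hw2⟩ := Scheme.Pullback.exists_preimage_pullback (f := j) (g := u0) f y hf
    refine ⟨sq.isoPullback.inv w, ?_⟩
    show hOf G ι (sq.isoPullback.inv w) = z
    rw [← hh, ← Scheme.Hom.comp_apply, ← Category.assoc, ← Category.assoc, IsPullback.isoPullback_inv_snd,
      Scheme.Hom.comp_apply, Scheme.Hom.comp_apply, hw2, show v0 y = z0 from hy]
    rfl
  have hflz : ∀ p, hOf G ι p = z → ((hOf G ι).stalkMap p).hom.Flat := by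
    intro p hp
    have e : hOf G ι = sq.isoPullback.hom ≫ (pullback.snd j u0 ≫ v0) ≫ U0.ι := by
      rw [← Category.assoc, ← Category.assoc, IsPullback.isoPullback_hom_snd, hh]
    rw [e]
    refine flat_stalkMap_comp _ _ p ?_
    rw [Scheme.Hom.stalkMap_comp, CommRingCat.hom_comp]
    refine RingHom.Flat.comp (.of_bijective (ConcreteCategory.bijective_of_isIso (U0.ι.stalkMap _))) ?_
    refine hfl _ (U0.ι.isOpenEmbedding.injective ?_)
    rw [← Scheme.Hom.comp_apply (pullback.snd j u0), ← Scheme.Hom.comp_apply,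
      ← Scheme.Hom.comp_apply sq.isoPullback.hom, ← e, hp]
    rfl
  have he' : G.t ⁻¹ᵁ U0 = G.s ⁻¹ᵁ U0 := he.symm
  obtain ⟨W, hzW, hWU, hW, hWfin, hWflat, hWsurj⟩ :=
    exists_saturated_finite_flat G ι U0 he' z hzS0 hfinz hnez hflz
  obtain ⟨μ, hμ⟩ := isPullback_restrict_section G ι W hW
  let e := hμ.isoIsPullback _ _ (isPullback_morphismRestrict (hOf G ι) W).flip
  have hφ : pullback.fst (G.t.resLE W (G.s ⁻¹ᵁ W) hW.ge) (ι ∣_ W) ≫ (G.s ∣_ W) =
      e.hom ≫ (hOf G ι ∣_ W) := (IsPullback.isoIsPullback_hom_snd _ _ _ _).symm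
  refine ⟨W, hW, hzW, (ι ⁻¹ᵁ W).toScheme, ι ∣_ W, inferInstance, ?_, ?_, ?_⟩
  · rw [hφ]
    exact ⟨inferInstance, inferInstance, inferInstance⟩
  · rw [hφ]; infer_instance
  intro E hE
  rcases E.eq_empty_or_nonempty with rfl | ⟨x, hx⟩
  · exact ⟨⊥, isAffineOpen_bot _, Set.empty_subset _⟩
  have : CompactSpace F := QuasiCompact.compactSpace_of_compactSpace j
  have : IsLocallyNoetherian F := LocallyOfFiniteType.isLocallyNoetherian j
  have : IsNoetherian F := {}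
  have hLW : CohB1.IsAmple ((Scheme.Modules.pullback (ι ⁻¹ᵁ W).ι).obj
      ((Scheme.Modules.pullback j).obj ((Scheme.Modules.pullback U0.ι).obj L))) :=
    Props.AmpleRel.isAmple_pullback_opens (Wt.AmpleThick.isAmple_pullback j hL0)
      (NoetherianSpace.isCompact _)
  refine GalCohAux.AmpleFinite.exists_affine_of_finite hLW ?_
  let w : W.toScheme := (ι ∣_ W) x
  have hfibre : (hOf G ι ⁻¹' {W.ι w}).Finite := by
    refine ((Scheme.Hom.finite_preimage_singleton (f := hOf G ι ∣_ W) w).image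
      (hOf G ι ⁻¹ᵁ W).ι).subset fun p hp => ?_
    have hpW : p ∈ hOf G ι ⁻¹ᵁ W := by
      show hOf G ι p ∈ W
      rw [hp]; exact w.2
    refine ⟨⟨p, hpW⟩, W.ι.isOpenEmbedding.injective ?_, rfl⟩
    rw [← Scheme.Hom.comp_apply, morphismRestrict_ι, Scheme.Hom.comp_apply]
    exact hp
  refine Set.Finite.of_finite_image (f := (ι ⁻¹ᵁ W).ι)
    ((hfibre.image (pullback.fst ι G.t)).subset ?_) (ι ⁻¹ᵁ W).ι.isOpenEmbedding.injective.injOn
  rintro _ ⟨y, hy, rfl⟩
  obtain ⟨r, ht, hs⟩ := hE y hy x hx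
  have ht' : G.t r = ι ((ι ⁻¹ᵁ W).ι y) := by
    refine ht.trans ?_
    rw [← Scheme.Hom.comp_apply, ← morphismRestrict_ι]
  obtain ⟨p, hp1, hp2⟩ := Scheme.Pullback.exists_preimage_pullback (f := ι) (g := G.t) _ r ht'.symm
  refine ⟨p, ?_, hp1⟩
  show hOf G ι p = W.ι w
  rw [Scheme.Hom.comp_apply, hp2]
  exact hs.trans (Scheme.Hom.comp_apply _ _ x)

end Groth.Agent.GrpdLib.QSec6046
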