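import Groth.Agent.GrpdLib.Cut5230.Main
import Groth.Agent.GrpdLib.Slice16047.Induced
import Mathlib.AlgebraicGeometry.Morphisms.QuasiFinite
import Mathlib.AlgebraicGeometry.ZariskisMainTheorem

/-!
# Finitely many arrows between two closed points, and spreading finiteness along orbits
-/

set_option autoImplicit false
set_option backward.isDefEq.respectTransparency false
set_option backward.isDefEq.respectTransparency.types false

universe u

open CategoryTheory Limits AlgebraicGeometry TopologicalSpace

noncomputable section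

namespace Groth.Agent.GrpdLib.QSec6046

open Cut5230 Slice16047

variable {S : Scheme.{u}}

/-- The residue field of a point closed in its fibre is finite over that of its image. -/
theorem isFinite_fromSpecResidueField {X : Scheme.{u}} (f : X ⟶ S) [LocallyOfFiniteType f] (x : X)
    (hx : IsClosedInFibre f x) :
    IsFinite (Spec.map (f.residueFieldMap x)) := by
  let t := f x
  have : LocallyOfFiniteType (f.fiberToSpecResidueField t) :=
    MorphismProperty.pullback_snd _ _ inferInstance
  have : JacobsonSpace (f.fiber t) := LocallyOfFiniteType.jacobsonSpace (f.fiberToSpecResidueField t)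
  let η := f.asFiber x
  have hη : f.fiberι t η = x := f.fiberι_fiberHomeo_symm t ⟨x, rfl⟩
  have hcl : IsClosed ({η} : Set (f.fiber t)) := by
    rw [← closure_eq_iff_isClosed]
    refine Set.Subset.antisymm (fun η' hη' => ?_) subset_closure
    have h1 : f.fiberι t η' ∈ closure ({x} : Set X) := by
      have := map_mem_closure (f.fiberι t).continuous hη' (Set.mapsTo_image (f.fiberι t) {η})
      rwa [Set.image_singleton, hη] at this
    exact (f.fiberι t).isEmbedding.injective ((hx _ h1 (f.fiberHomeo t η').2).trans hη.symm)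
  have : IsClosedImmersion ((f.fiber t).fromSpecResidueField η) :=
    isClosed_singleton_iff_isClosedImmersion.mp hcl
  have hfin : IsFinite ((f.fiber t).fromSpecResidueField η ≫ f.fiberToSpecResidueField t) :=
    (isFinite_iff_locallyOfFiniteType_of_jacobsonSpace).mpr inferInstance
  let e := (X.residueFieldCongr hη.symm).hom ≫ (f.fiberι t).residueFieldMap η
  have he : Spec.map e ≫ X.fromSpecResidueField x =
      (f.fiber t).fromSpecResidueField η ≫ f.fiberι t := by
    rw [Spec.map_comp, Category.assoc, Scheme.residueFieldCongr_fromSpecResidueField,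
      Scheme.Hom.SpecMap_residueFieldMap_fromSpecResidueField]
  have he2 : Spec.map e ≫ Spec.map (f.residueFieldMap x) =
      (f.fiber t).fromSpecResidueField η ≫ f.fiberToSpecResidueField t := by
    rw [← cancel_mono (S.fromSpecResidueField (f x)), Category.assoc,
      Scheme.Hom.SpecMap_residueFieldMap_fromSpecResidueField, reassoc_of% he, Category.assoc,
      Scheme.Hom.fiber_fac]
  have : IsIso ((f.fiberι t).residueFieldMap η) := by
    refine (ConcreteCategory.isIso_iff_bijective _).mpr ⟨RingHom.injective _, fun c => ?_⟩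
    obtain ⟨c, rfl⟩ := (f.fiber t).residue_surjective η c
    obtain ⟨d, rfl⟩ := (f.fiberι t).stalkMap_surjective η c
    exact ⟨X.residue _ d, congr($(Scheme.residue_residueFieldMap (f.fiberι t) η).hom d)⟩
  have : IsIso e := inferInstance
  have : Spec.map (f.residueFieldMap x) = inv (Spec.map e) ≫
      (f.fiber t).fromSpecResidueField η ≫ f.fiberToSpecResidueField t := by
    rw [← he2, IsIso.inv_hom_id_assoc]
  rw [this]
  exact MorphismProperty.RespectsIso.precomp (P := @IsFinite) (inv (Spec.map e)) _ hfin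

/-- Finitely many points of the product lie over two points closed in their fibres. -/
theorem finite_over_pair {X Y : Scheme.{u}} (f : X ⟶ S) (g : Y ⟶ S) [LocallyOfFiniteType f]
    (a : X) (b : Y) (ha : IsClosedInFibre f a) :
    {w : ↥(pullback f g) | pullback.fst f g w = a ∧ pullback.snd f g w = b}.Finite := by
  classical
  rcases Set.eq_empty_or_nonempty {w : ↥(pullback f g) | pullback.fst f g w = a ∧ pullback.snd f g w = b}
    with h | ⟨w₀, hw₀a, hw₀b⟩
  · rw [h]; exact Set.finite_empty
  have hab : f a = g b := by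
    rw [← hw₀a, ← hw₀b, ← Scheme.Hom.comp_apply, pullback.condition, Scheme.Hom.comp_apply]
  let P := pullback (X.fromSpecResidueField a ≫ f) (Y.fromSpecResidueField b ≫ g)
  have hq : IsFinite (pullback.snd (X.fromSpecResidueField a ≫ f) (Y.fromSpecResidueField b ≫ g)) := by
    have hb : Y.fromSpecResidueField b ≫ g =
        (Spec.map (g.residueFieldMap b) ≫ Spec.map (S.residueFieldCongr hab).hom) ≫
          S.fromSpecResidueField (f a) := by
      rw [Category.assoc, Scheme.residueFieldCongr_fromSpecResidueField,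
        Scheme.Hom.SpecMap_residueFieldMap_fromSpecResidueField]
    have sq := isPullback_comp_mono (IsPullback.of_hasPullback (Spec.map (f.residueFieldMap a))
      (Spec.map (g.residueFieldMap b) ≫ Spec.map (S.residueFieldCongr hab).hom))
      (S.fromSpecResidueField (f a))
    rw [Scheme.Hom.SpecMap_residueFieldMap_fromSpecResidueField, ← hb] at sq
    rw [← sq.isoPullback_inv_snd]
    have : IsFinite (Spec.map (f.residueFieldMap a)) := isFinite_fromSpecResidueField f a ha
    infer_instance
  have hfinP : Finite P := by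
    have h := Scheme.Hom.finite_preimage_singleton
      (f := pullback.snd (X.fromSpecResidueField a ≫ f) (Y.fromSpecResidueField b ≫ g))
      (IsLocalRing.closedPoint (Y.residueField b))
    refine Set.finite_univ_iff.mp (h.subset fun q _ => ?_)
    exact Subsingleton.elim (α := Spec (Y.residueField b)) _ _
  let μ : P ⟶ pullback f g := pullback.map _ _ f g (X.fromSpecResidueField a) (Y.fromSpecResidueField b)
    (𝟙 S) (Category.comp_id _) (Category.comp_id _)
  refine (Set.finite_range μ).subset ?_
  rintro w ⟨hwa, hwb⟩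
  rw [Scheme.Pullback.range_map]
  exact ⟨by rw [Set.mem_preimage, Scheme.range_fromSpecResidueField, hwa]; rfl,
    by rw [Set.mem_preimage, Scheme.range_fromSpecResidueField, hwb]; rfl⟩

variable (G : Grpd.GroupoidScheme S)

/-- Finitely many arrows join two given points closed in their fibres. -/
theorem finite_arrows [LocallyOfFiniteType G.pU] [LocallyQuasiFinite G.j] [QuasiCompact G.j]
    (a b : G.U) (ha : IsClosedInFibre G.pU a) :
    {r : G.R | G.t r = a ∧ G.s r = b}.Finite := by
  refine ((finite_over_pair G.pU G.pU a b ha).preimage' fun w _ => G.j.finite_preimage_singleton w).subset ?_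
  rintro r ⟨ht, hs⟩
  exact ⟨by rw [← Scheme.Hom.comp_apply, j_fst, ht], by rw [← Scheme.Hom.comp_apply, j_snd, hs]⟩

variable {F : Scheme.{u}} (ι : F ⟶ G.U)

/-- Over the saturation of an open where the arrows from `F` are finite flat, they are still
quasi-finite and flat. -/
theorem finite_flat_of_rel [Flat G.s] [Flat G.t] [LocallyOfFiniteType (hOf G ι)] (V : G.U.Opens)
    [IsFinite (hOf G ι ∣_ V)] (W₁ : Set G.U) (hW₁ : W₁ ⊆ V)
    (hflat : ∀ p, hOf G ι p ∈ W₁ → ((hOf G ι).stalkMap p).hom.Flat)
    (r : G.R) (hr : G.t r ∈ W₁) :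
    (hOf G ι ⁻¹' {G.s r}).Finite ∧
      ∀ p, hOf G ι p = G.s r → ((hOf G ι).stalkMap p).hom.Flat := by
  let q := pullback.snd (hOf G ι) G.t
  have hfin : IsFinite (q ∣_ (G.t ⁻¹ᵁ V)) := by
    have hpre : q ⁻¹ᵁ (G.t ⁻¹ᵁ V) = pullback.fst (hOf G ι) G.t ⁻¹ᵁ (hOf G ι ⁻¹ᵁ V) := by
      rw [← Scheme.Hom.comp_preimage, ← Scheme.Hom.comp_preimage, pullback.condition]
    let φ : (q ⁻¹ᵁ (G.t ⁻¹ᵁ V)).toScheme ⟶ (hOf G ι ⁻¹ᵁ V).toScheme :=
      (pullback.fst (hOf G ι) G.t).resLE _ _ hpre.le
    have sq : IsPullback φ (q ∣_ (G.t ⁻¹ᵁ V)) (hOf G ι ∣_ V) (G.t ∣_ V) := by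
      refine IsPullback.of_right ?_ ?_ (isPullback_morphismRestrict (hOf G ι) V).flip
      · rw [show φ ≫ (hOf G ι ⁻¹ᵁ V).ι = (q ⁻¹ᵁ (G.t ⁻¹ᵁ V)).ι ≫ pullback.fst (hOf G ι) G.t from
          Scheme.Hom.resLE_comp_ι _ _, morphismRestrict_ι]
        exact (isPullback_morphismRestrict q (G.t ⁻¹ᵁ V)).flip.paste_horiz
          (IsPullback.of_hasPullback (hOf G ι) G.t)
      · rw [← cancel_mono V.ι, Category.assoc, Category.assoc, morphismRestrict_ι, morphismRestrict_ι,
          Scheme.Hom.resLE_comp_ι_assoc, morphismRestrict_ι_assoc, pullback.condition]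
    exact MorphismProperty.of_isPullback sq inferInstance
  have hqfin : (q ⁻¹' {r}).Finite := by
    refine ((Scheme.Hom.finite_preimage_singleton (f := q ∣_ (G.t ⁻¹ᵁ V))
      ⟨r, hW₁ hr⟩).image (q ⁻¹ᵁ (G.t ⁻¹ᵁ V)).ι).subset ?_
    intro y hy
    have hyV : y ∈ q ⁻¹ᵁ (G.t ⁻¹ᵁ V) := by
      show q y ∈ G.t ⁻¹ᵁ V
      rw [hy]; exact hW₁ hr
    refine ⟨⟨y, hyV⟩, (G.t ⁻¹ᵁ V).ι.isOpenEmbedding.injective ?_, rfl⟩
    rw [← Scheme.Hom.comp_apply, morphismRestrict_ι, Scheme.Hom.comp_apply]
    exact hy
  have hlift : ∀ p, hOf G ι p = G.s r → ∃ y, q y = r ∧ mul G ι y = p := by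
    intro p hp
    obtain ⟨w, hw1, hw2⟩ := Scheme.Pullback.exists_preimage_pullback p r hp
    refine ⟨(isPullback_mul G ι).isoPullback.inv w, ?_, ?_⟩
    · rw [← Scheme.Hom.comp_apply, IsPullback.isoPullback_inv_snd, hw2]
    · rw [← Scheme.Hom.comp_apply, IsPullback.isoPullback_inv_fst, hw1]
  refine ⟨(hqfin.image (mul G ι)).subset fun p hp => ?_, fun p hp => ?_⟩
  · obtain ⟨y, hy, rfl⟩ := hlift p hp
    exact ⟨y, hy, rfl⟩
  · obtain ⟨y, hy, rfl⟩ := hlift p hp
    refine (S5223.result (isPullback_mul G ι) y).mp ((S5223.result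
      (IsPullback.of_hasPullback (hOf G ι) G.t) y).mpr (hflat _ ?_))
    rw [← Scheme.Hom.comp_apply, pullback.condition, Scheme.Hom.comp_apply, hy]
    exact hr

end Groth.Agent.GrpdLib.QSec6046
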