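import Groth.Agent.GrpdLib.QSec6046.Finite
import Mathlib.AlgebraicGeometry.Morphisms.UniversallyOpen

/-!
# A quasi-section over a saturated neighbourhood
-/

set_option autoImplicit false
set_option backward.isDefEq.respectTransparency false
set_option backward.isDefEq.respectTransparency.types false

universe u

open CategoryTheory Limits AlgebraicGeometry TopologicalSpace

noncomputable section

namespace Groth.Agent.GrpdLib.QSec6046

open Cut5230 Slice16047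

variable {S : Scheme.{u}} (G : Grpd.GroupoidScheme S) {F : Scheme.{u}} (ι : F ⟶ G.U)

lemma hOf_mem_range_iff (u : G.U) :
    u ∈ Set.range (hOf G ι) ↔ ∃ f, Rel G (ι f) u := by
  constructor
  · rintro ⟨p, rfl⟩
    refine ⟨pullback.fst ι G.t p, pullback.snd ι G.t p, ?_, (Scheme.Hom.comp_apply _ _ p).symm⟩
    rw [← Scheme.Hom.comp_apply, ← Scheme.Hom.comp_apply, pullback.condition]
  · rintro ⟨f, r, ht, rfl⟩
    obtain ⟨p, -, hp⟩ := Scheme.Pullback.exists_preimage_pullback (f := ι) (g := G.t) f r ht.symm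
    exact ⟨p, by rw [Scheme.Hom.comp_apply, hp]⟩

/-- A saturated neighbourhood over which the arrows from `F` are finite, flat and surjective. -/
theorem exists_saturated_finite_flat [IsLocallyNoetherian G.U] [Flat G.s] [Flat G.t]
    [LocallyOfFiniteType G.s] [LocallyOfFiniteType (hOf G ι)] (U0 : G.U.Opens)
    (hU0 : G.t ⁻¹ᵁ U0 = G.s ⁻¹ᵁ U0) [IsProper (hOf G ι ∣_ U0)] (z : G.U) (hzU : z ∈ U0)
    (hfin : (hOf G ι ⁻¹' {z}).Finite) (hne : (hOf G ι ⁻¹' {z}).Nonempty)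
    (hflat : ∀ p, hOf G ι p = z → ((hOf G ι).stalkMap p).hom.Flat) :
    ∃ W : G.U.Opens, z ∈ W ∧ W ≤ U0 ∧ G.t ⁻¹ᵁ W = G.s ⁻¹ᵁ W ∧
      IsFinite (hOf G ι ∣_ W) ∧ Flat (hOf G ι ∣_ W) ∧ Surjective (hOf G ι ∣_ W) := by
  set h := hOf G ι with hh
  have hlfp : LocallyOfFinitePresentation h := inferInstance
  -- finiteness near `z`
  have hfz : ((h ∣_ U0) ⁻¹' {⟨z, hzU⟩}).Finite := by
    refine (hfin.preimage (f := (h ⁻¹ᵁ U0).ι) (h ⁻¹ᵁ U0).ι.isOpenEmbedding.injective.injOn).subset ?_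
    intro p hp
    show h ((h ⁻¹ᵁ U0).ι p) = z
    rw [← Scheme.Hom.comp_apply, ← morphismRestrict_ι, Scheme.Hom.comp_apply, hp]
    rfl
  obtain ⟨V', hzV', hfinV'⟩ :=
    exists_isFinite_morphismRestrict_of_finite_preimage_singleton (h ∣_ U0) ⟨z, hzU⟩ hfz
  let V : G.U.Opens := U0.ι ''ᵁ V'
  have hVfin : IsFinite (h ∣_ V) :=
    (MorphismProperty.arrow_mk_iso_iff @IsFinite (morphismRestrictRestrict h U0 V')).mp hfinV'
  have hVU : V ≤ U0 := by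
    rintro _ ⟨a, -, rfl⟩; exact a.2
  -- flatness near `z`
  let Fl : (pullback ι G.t).Opens := ⟨_, S0386.result h⟩
  let O0 := h ⁻¹ᵁ U0
  have hbad : IsClosed ((h ∣_ U0) '' ((O0.ι ⁻¹ᵁ Fl : O0.toScheme.Opens) : Set O0)ᶜ) :=
    (h ∣_ U0).isClosedMap _ (Opens.isOpen _).isClosed_compl
  let G1 : U0.toScheme.Opens := ⟨_, hbad.isOpen_compl⟩
  let W₁ : G.U.Opens := V ⊓ U0.ι ''ᵁ G1
  have hzW₁ : z ∈ W₁ := by
    refine ⟨⟨⟨z, hzU⟩, hzV', rfl⟩, ⟨⟨z, hzU⟩, ?_, rfl⟩⟩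
    rintro ⟨p, hp, hpz⟩
    refine hp (hflat _ ?_)
    rw [← Scheme.Hom.comp_apply, ← morphismRestrict_ι, Scheme.Hom.comp_apply, hpz]
    rfl
  have hflat₁ : ∀ p, h p ∈ W₁ → (h.stalkMap p).hom.Flat := by
    intro p hp
    obtain ⟨⟨a, ha⟩, haG, hap⟩ := hp.2
    have hpO : p ∈ O0 := by
      show h p ∈ U0
      rw [← hap]; exact ha
    by_contra hn
    refine haG ⟨⟨p, hpO⟩, fun hc => hn hc, U0.ι.isOpenEmbedding.injective ?_⟩
    rw [← Scheme.Hom.comp_apply, morphismRestrict_ι]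
    exact hap.symm
  -- saturate
  have hsopen : IsOpen (G.s '' (G.t ⁻¹' (W₁ : Set G.U))) :=
    G.s.isOpenMap _ (W₁.2.preimage G.t.continuous)
  let W₂ : G.U.Opens := ⟨_, hsopen⟩
  have key : ∀ u ∈ W₂, (h ⁻¹' {u}).Finite ∧ ∀ p, h p = u → (h.stalkMap p).hom.Flat := by
    rintro u ⟨r, hr, rfl⟩
    exact finite_flat_of_rel G ι V (W₁ : Set G.U) (fun x hx => hx.1) hflat₁ r hr
  have hflatW₂ : ∀ p, h p ∈ W₂ → (h.stalkMap p).hom.Flat := fun p hp => (key _ hp).2 p rfl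
  have hopen : IsOpen ((W₂ : Set G.U) ∩ Set.range h) := by
    have : Flat ((h ⁻¹ᵁ W₂).ι ≫ h) := by
      refine Slice16047.flat_of_stalks _ fun p => ?_
      exact Cut5230.flat_stalkMap_comp _ h p (hflatW₂ _ p.2)
    have : LocallyOfFinitePresentation ((h ⁻¹ᵁ W₂).ι ≫ h) := inferInstance
    convert ((h ⁻¹ᵁ W₂).ι ≫ h).isOpenMap.isOpen_range using 1
    ext u
    constructor
    · rintro ⟨hu, p, rfl⟩
      exact ⟨⟨p, hu⟩, rfl⟩
    · rintro ⟨p, rfl⟩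
      exact ⟨p.2, _, (Scheme.Hom.comp_apply _ h p).symm⟩
  let W : G.U.Opens := ⟨_, hopen⟩
  have hU0rel : ∀ a b, Rel G a b → a ∈ U0 → b ∈ U0 := by
    rintro a b ⟨r, rfl, rfl⟩ ha
    have : r ∈ G.t ⁻¹ᵁ U0 := ha
    rw [hU0] at this
    exact this
  have hW₂U : W₂ ≤ U0 := by
    rintro _ ⟨r, hr, rfl⟩
    exact hU0rel _ _ ⟨r, rfl, rfl⟩ (hVU hr.1)
  have hWrel : ∀ a b, Rel G a b → a ∈ W → b ∈ W := by
    rintro a b hab ⟨⟨r, hr, rfl⟩, hrange⟩
    obtain ⟨r', hr', hb⟩ := (rel_equivalence G).trans (⟨r, rfl, rfl⟩ : Rel G (G.t r) (G.s r)) hab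
    refine ⟨⟨r', ?_, hb⟩, ?_⟩
    · show G.t r' ∈ W₁
      rw [hr']; exact hr
    · rw [hOf_mem_range_iff] at hrange ⊢
      obtain ⟨f, hf⟩ := hrange
      exact ⟨f, (rel_equivalence G).trans hf hab⟩
  refine ⟨W, ⟨⟨G.e z, ?_, s_e_apply G z⟩, hne⟩, fun u hu => hW₂U hu.1, ?_, ?_, ?_, ?_⟩
  · show G.t (G.e z) ∈ W₁
    rw [t_e_apply]; exact hzW₁
  · ext r
    exact ⟨hWrel _ _ ⟨r, rfl, rfl⟩, hWrel _ _ ((rel_equivalence G).symm ⟨r, rfl, rfl⟩)⟩
  · have hW' : U0.ι ''ᵁ (U0.ι ⁻¹ᵁ W) = W := by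
      ext u
      exact ⟨fun ⟨a, ha, e⟩ => e ▸ ha, fun hu => ⟨⟨u, hW₂U hu.1⟩, hu, rfl⟩⟩
    have : IsProper (h ∣_ W) := by
      rw [← hW']
      exact (MorphismProperty.arrow_mk_iso_iff @IsProper (morphismRestrictRestrict h U0 _)).mp
        (IsZariskiLocalAtTarget.restrict ‹IsProper (h ∣_ U0)› _)
    have : LocallyQuasiFinite (h ∣_ W) := by
      refine .of_finite_preimage_singleton _ fun w => ?_
      refine ((key _ w.2.1).1.preimage (f := (h ⁻¹ᵁ W).ι)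
        (h ⁻¹ᵁ W).ι.isOpenEmbedding.injective.injOn).subset ?_
      intro p hp
      show h ((h ⁻¹ᵁ W).ι p) = W.ι w
      rw [← Scheme.Hom.comp_apply, ← morphismRestrict_ι, Scheme.Hom.comp_apply, hp]
    exact IsFinite.of_isProper_of_locallyQuasiFinite _
  · have : Flat ((h ⁻¹ᵁ W).ι ≫ h) := Slice16047.flat_of_stalks _ fun p =>
      Cut5230.flat_stalkMap_comp _ h p (hflatW₂ _ p.2.1)
    exact MorphismProperty.of_isPullback (P := @Flat)
      (Slice16047.isPullback_factor (morphismRestrict_ι h W)) inferInstance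
  · refine ⟨fun w => ?_⟩
    obtain ⟨p, hp⟩ := w.2.2
    refine ⟨⟨p, by show h p ∈ W; rw [hp]; exact w.2⟩, W.ι.isOpenEmbedding.injective ?_⟩
    rw [← Scheme.Hom.comp_apply, morphismRestrict_ι, Scheme.Hom.comp_apply]
    exact hp

end Groth.Agent.GrpdLib.QSec6046
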